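import Groth.Agent.Sga3A.TorsionDense
import Mathlib.RingTheory.HopkinsLevitzki

/-!
# Artinian local rings of finite type over `ℤ` are finite (helper145)
-/

set_option autoImplicit false

universe u

open IsLocalRing

namespace K145.FinArt

theorem finite_of_isArtinianRing (B : Type u) [CommRing B] [IsLocalRing B] [IsArtinianRing B]
    [Algebra.FiniteType ℤ B] : Finite B := by
  obtain ⟨n, hn⟩ := (isArtinianRing_iff_isNilpotent_maximalIdeal B).1 inferInstance
  have h1 := Groth.Agent.Sga3A.TorsionDense.finite_quotient_pow_int B (maximalIdeal B) n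
  have h2 : maximalIdeal B ^ n = ⊥ := hn
  have h3 : Function.Injective (Ideal.Quotient.mk (maximalIdeal B ^ n)) := by
    rw [RingHom.injective_iff_ker_eq_bot, Ideal.mk_ker, h2]
  exact Finite.of_injective _ h3

end K145.FinArt
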