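import Groth.Agent.AlgSt.K735.Fib
import Mathlib.CategoryTheory.Limits.Shapes.Pullback.IsPullback.Basic

/-!
# Products in a category fibred in groupoids (helper145)

`IsProd p q` : `(w, p, q)` is a product of the targets.  The image in the base of the comparison square of two products
`ξ × y'`, `ξ × y` along `y' ⟶ y` is cartesian (`isPullback_map`).
-/

set_option autoImplicit false
set_option backward.isDefEq.respectTransparency false
set_option backward.isDefEq.respectTransparency.types false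

universe v₂ u₂ v u

open CategoryTheory CategoryTheory.Limits K735.Fib

namespace K145.ProdSq

variable {C : Type u} [Category.{v} C] {𝒳 : BasedCategory.{v₂, u₂} C}

/-- Binary product, in the form of the axiom `PR`. -/
def IsProd {x y w : 𝒳.obj} (p : w ⟶ x) (q : w ⟶ y) : Prop :=
  ∀ (z : 𝒳.obj) (a : z ⟶ x) (b : z ⟶ y), ∃! c : z ⟶ w, c ≫ p = a ∧ c ≫ q = b

theorem IsProd.exists {x y w : 𝒳.obj} {p : w ⟶ x} {q : w ⟶ y} (h : IsProd p q) {z : 𝒳.obj} (a : z ⟶ x) (b : z ⟶ y) :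
    ∃ c : z ⟶ w, c ≫ p = a ∧ c ≫ q = b := (h z a b).exists

theorem IsProd.ext {x y w : 𝒳.obj} {p : w ⟶ x} {q : w ⟶ y} (h : IsProd p q) {z : 𝒳.obj} {c c' : z ⟶ w}
    (h1 : c ≫ p = c' ≫ p) (h2 : c ≫ q = c' ≫ q) : c = c' :=
  (h z (c ≫ p) (c ≫ q)).unique ⟨rfl, rfl⟩ ⟨h1.symm, h2.symm⟩

/-- Comparison of two products along `b : y' ⟶ y`: the square of the underlying objects of the base is cartesian. -/
theorem isPullback_map (hf : FibCat.IsFibGrpd 𝒳.p) {ξ y y' w w' : 𝒳.obj} {p : w ⟶ ξ} {q : w ⟶ y} (h : IsProd p q)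
    {p' : w' ⟶ ξ} {q' : w' ⟶ y'} (h' : IsProd p' q') (b : y' ⟶ y) :
    ∃ c : w' ⟶ w, c ≫ p = p' ∧ c ≫ q = q' ≫ b ∧
      IsPullback (𝒳.p.map c) (𝒳.p.map q') (𝒳.p.map q) (𝒳.p.map b) := by
  obtain ⟨c, hc1, hc2⟩ := h.exists p' (q' ≫ b)
  refine ⟨c, hc1, hc2, ?_⟩
  have hw : 𝒳.p.map c ≫ 𝒳.p.map q = 𝒳.p.map q' ≫ 𝒳.p.map b := by
    rw [← Functor.map_comp, ← Functor.map_comp, hc2]
  -- existence
  have hex : ∀ {U : C} (f : U ⟶ 𝒳.p.obj w) (g : U ⟶ 𝒳.p.obj y') (_ : f ≫ 𝒳.p.map q = g ≫ 𝒳.p.map b),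
      ∃ k : U ⟶ 𝒳.p.obj w', k ≫ 𝒳.p.map c = f ∧ k ≫ 𝒳.p.map q' = g := by
    intro U f g hfg
    obtain ⟨z, ζ, e, hζ⟩ := exists_lift hf f
    obtain ⟨η, hη1, hη2⟩ := exists_hom hf b (ζ ≫ q) (eqToHom e ≫ g) (by
      rw [Functor.map_comp, hζ, Category.assoc, Category.assoc, hfg])
    obtain ⟨κ, hκ1, hκ2⟩ := h'.exists (ζ ≫ p) η
    have hκc : κ ≫ c = ζ := by
      apply h.ext
      · rw [Category.assoc, hc1, hκ1]
      · rw [Category.assoc, hc2, ← Category.assoc, hκ2, hη2]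
    refine ⟨eqToHom e.symm ≫ 𝒳.p.map κ, ?_, ?_⟩
    · rw [Category.assoc, ← Functor.map_comp, hκc, hζ]
      simp
    · rw [Category.assoc, ← Functor.map_comp, hκ2, hη1]
      simp
  -- uniqueness
  have hun : ∀ {U : C} (k k' : U ⟶ 𝒳.p.obj w'), k ≫ 𝒳.p.map c = k' ≫ 𝒳.p.map c →
      k ≫ 𝒳.p.map q' = k' ≫ 𝒳.p.map q' → k = k' := by
    intro U k k' h1 h2
    obtain ⟨z, ζ, e, hζ⟩ := exists_lift hf (k ≫ 𝒳.p.map c)
    obtain ⟨κ, hκ1, hκ2⟩ := exists_hom hf c ζ (eqToHom e ≫ k) (by rw [hζ, Category.assoc])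
    obtain ⟨κ', hκ1', hκ2'⟩ := exists_hom hf c ζ (eqToHom e ≫ k') (by rw [hζ, Category.assoc, h1])
    have hq : κ ≫ q' = κ' ≫ q' := by
      apply hom_ext' hf b
      · rw [Functor.map_comp, Functor.map_comp, hκ1, hκ1', Category.assoc, Category.assoc, h2]
      · rw [Category.assoc, Category.assoc, ← hc2, ← Category.assoc, ← Category.assoc, hκ2, hκ2']
    have hκκ : κ = κ' := by
      apply h'.ext
      · rw [← hc1, ← Category.assoc, ← Category.assoc, hκ2, hκ2']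
      · exact hq
    have h3 : eqToHom e ≫ k = eqToHom e ≫ k' := by rw [← hκ1, ← hκ1', hκκ]
    exact (cancel_epi (eqToHom e)).1 h3
  refine ⟨⟨hw⟩, ⟨PullbackCone.IsLimit.mk hw (fun s => (hex s.fst s.snd s.condition).choose)
    (fun s => (hex s.fst s.snd s.condition).choose_spec.1) (fun s => (hex s.fst s.snd s.condition).choose_spec.2)
    (fun s m h1 h2 => hun _ _ ?_ ?_)⟩⟩
  · rw [h1, (hex s.fst s.snd s.condition).choose_spec.1]
  · rw [h2, (hex s.fst s.snd s.condition).choose_spec.2]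

end K145.ProdSq
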