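import Groth.Agent.AlgSp.K145.ProdSq
import Groth.Agent.AlgSp.K145.FinArt
import Groth.Agent.AlgSp.K607.ArtinEV
import Groth.Agent.S1417

/-!
# Charts with the lifting property are smooth (helper145)

`smooth_prod` : `ξ` an object over a `Λ`-algebra of finite type (`Λ` of finite type over `ℤ`) with the lifting property
`EV`, `𝒳` with the axioms `LP` and `PR`; for every object `y`, the projection `ξ × y ⟶ y` is smooth on the underlying
schemes.
-/

set_option autoImplicit false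
set_option backward.isDefEq.respectTransparency false
set_option backward.isDefEq.respectTransparency.types false

universe w v u

open CategoryTheory CategoryTheory.Limits AlgebraicGeometry K735.Fib K145.ProdSq K607.Artin

namespace K145.SmoothChart

variable {Λ : Type u} [CommRing Λ] {𝒳 : BasedCategory.{v, w} (Over (Spec (CommRingCat.of Λ)))}

/-- The structure of `Λ`-algebra given by a morphism to `Spec Λ`. -/
theorem exists_algebra (B : Type u) [CommRing B] (s : Spec (CommRingCat.of B) ⟶ Spec (CommRingCat.of Λ)) :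
    ∃ _ : Algebra Λ B, Spec.map (CommRingCat.ofHom (algebraMap Λ B)) = s := by
  refine ⟨(Spec.preimage s).hom.toAlgebra, ?_⟩
  change Spec.map (Spec.preimage s) = s
  exact Spec.map_preimage s

/-- The lifting step. -/
theorem exists_lift_of_EV (hf : FibCat.IsFibGrpd 𝒳.p) {ξ y w : 𝒳.obj} (hev : EV ξ) {p : w ⟶ ξ} {q : w ⟶ y}
    (hw : IsProd p q) {B B' : Type u} [CommRing B] [CommRing B'] [IsLocalRing B] [IsLocalRing B'] [Finite B']
    (φ : B' →+* B) (hφ : Function.Surjective φ) (α : Spec (CommRingCat.of B) ⟶ (𝒳.p.obj w).left)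
    (β : Spec (CommRingCat.of B') ⟶ (𝒳.p.obj y).left)
    (hαβ : Spec.map (CommRingCat.ofHom φ) ≫ β = α ≫ (𝒳.p.map q).left) :
    ∃ γ : Spec (CommRingCat.of B') ⟶ (𝒳.p.obj w).left,
      Spec.map (CommRingCat.ofHom φ) ≫ γ = α ∧ γ ≫ (𝒳.p.map q).left = β := by
  obtain ⟨a1, ha1⟩ := exists_algebra B' (β ≫ (𝒳.p.obj y).hom)
  let _ : Algebra Λ B := (φ.comp (algebraMap Λ B')).toAlgebra
  let φₐ : B' →ₐ[Λ] B := { φ with commutes' := fun r => rfl }
  have hs : Spec.map (CommRingCat.ofHom (algebraMap Λ B)) =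
      Spec.map (CommRingCat.ofHom φ) ≫ Spec.map (CommRingCat.ofHom (algebraMap Λ B')) := by
    rw [← Spec.map_comp]
    rfl
  let β₀ : sp Λ B' ⟶ 𝒳.p.obj y := Over.homMk β ha1.symm
  let α₀ : sp Λ B ⟶ 𝒳.p.obj w := Over.homMk α (by
    change α ≫ (𝒳.p.obj w).hom = Spec.map (CommRingCat.ofHom (algebraMap Λ B))
    rw [hs, ha1, ← Category.assoc, hαβ, Category.assoc, Over.w])
  have hαβ₀ : spMap φₐ ≫ β₀ = α₀ ≫ 𝒳.p.map q := by
    apply Over.OverMorphism.ext
    exact hαβ
  obtain ⟨x', b', ex', hb'⟩ := exists_lift hf β₀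
  obtain ⟨z, ζ, ez, hζ⟩ := exists_lift hf α₀
  obtain ⟨b, hb1, hb2⟩ := exists_hom hf b' (ζ ≫ q) (eqToHom ez ≫ spMap φₐ ≫ eqToHom ex'.symm) (by
    rw [Functor.map_comp, hb', hζ]
    simp only [Category.assoc, eqToHom_trans_assoc, eqToHom_refl, Category.id_comp, hαβ₀])
  have hLi : Li φₐ b := IsHomLift.of_fac' (p := 𝒳.p) (spMap φₐ) b ez ex' hb1
  obtain ⟨a', ha'⟩ := hev B B' φₐ hφ b (ζ ≫ p) hLi
  obtain ⟨c, hc1, hc2⟩ := hw.exists a' b'
  have hbc : b ≫ c = ζ := by
    apply hw.ext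
    · rw [Category.assoc, hc1, ha']
    · rw [Category.assoc, hc2, hb2]
  have h1 : spMap φₐ ≫ eqToHom ex'.symm ≫ 𝒳.p.map c = α₀ := by
    have := congrArg 𝒳.p.map hbc
    rw [Functor.map_comp, hb1, hζ] at this
    exact (cancel_epi (eqToHom ez)).1 (by simpa using this)
  have h2 : (eqToHom ex'.symm ≫ 𝒳.p.map c) ≫ 𝒳.p.map q = β₀ := by
    rw [Category.assoc, ← Functor.map_comp, hc2, hb']
    simp
  refine ⟨(eqToHom ex'.symm ≫ 𝒳.p.map c).left, ?_, ?_⟩
  · exact congrArg (fun f => CommaMorphism.left f) h1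
  · exact congrArg (fun f => CommaMorphism.left f) h2


theorem finiteType_of_lft (B : Type u) [CommRing B] [Algebra Λ B] (hs : LocallyOfFiniteType (sp Λ B).hom) :
    Algebra.FiniteType Λ B := by
  have h1 : LocallyOfFiniteType (Spec.map (CommRingCat.ofHom (algebraMap Λ B))) := hs
  rw [HasRingHomProperty.Spec_iff (P := @LocallyOfFiniteType)] at h1
  exact RingHom.finiteType_algebraMap.1 h1

theorem lft_of_finiteType (B : Type u) [CommRing B] [Algebra Λ B] [h : Algebra.FiniteType Λ B] :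
    LocallyOfFiniteType (sp Λ B).hom := by
  change LocallyOfFiniteType (Spec.map (CommRingCat.ofHom (algebraMap Λ B)))
  rw [HasRingHomProperty.Spec_iff (P := @LocallyOfFiniteType)]
  exact RingHom.finiteType_algebraMap.2 h

variable [Algebra.FiniteType ℤ Λ]

/-- The projection `ξ × y ⟶ y` is smooth for `y` over an algebra of finite type. -/
theorem smooth_of_finiteType (hf : FibCat.IsFibGrpd 𝒳.p) {A C : Type u} [CommRing A] [CommRing C] [Algebra Λ A]
    [Algebra Λ C] [Algebra.FiniteType Λ A] [Algebra.FiniteType Λ C] {ξ y w : 𝒳.obj} (hξ : Ov A ξ) (hy : Ov C y)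
    (hev : EV ξ) {p : w ⟶ ξ} {q : w ⟶ y} (hw : IsProd p q)
    (hl : LocallyOfFiniteType (pullback.lift (𝒳.p.map p).left (𝒳.p.map q).left
        ((Over.w (𝒳.p.map p)).trans (Over.w (𝒳.p.map q)).symm) :
          (𝒳.p.obj w).left ⟶ pullback (𝒳.p.obj ξ).hom (𝒳.p.obj y).hom)) :
    Smooth (𝒳.p.map q).left := by
  have h1 : LocallyOfFiniteType (𝒳.p.obj ξ).hom := by
    rw [show 𝒳.p.obj ξ = sp Λ A from hξ]
    exact lft_of_finiteType A
  have h2 : LocallyOfFiniteType (𝒳.p.obj y).hom := by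
    rw [show 𝒳.p.obj y = sp Λ C from hy]
    exact lft_of_finiteType C
  have hΛ : IsNoetherianRing Λ := Algebra.FiniteType.isNoetherianRing ℤ Λ
  have hC : IsNoetherianRing C := Algebra.FiniteType.isNoetherianRing Λ C
  have h3 : IsLocallyNoetherian (𝒳.p.obj y).left := by
    rw [show 𝒳.p.obj y = sp Λ C from hy]
    change IsLocallyNoetherian (Spec (CommRingCat.of C))
    infer_instance
  have h4 : LocallyOfFiniteType (𝒳.p.map q).left := by
    have : (𝒳.p.map q).left = pullback.lift (𝒳.p.map p).left (𝒳.p.map q).left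
        ((Over.w (𝒳.p.map p)).trans (Over.w (𝒳.p.map q)).symm) ≫ pullback.snd _ _ := by simp
    rw [this]
    infer_instance
  refine (Groth.Agent.S1417.result (𝒳.p.map q).left).2 ?_
  intro B B' _ _ _ _ _ _ φ ε hφ _ _ α β hβ hαβ
  have hB' : Finite B' := by
    obtain ⟨a1, ha1⟩ := exists_algebra B' (β ≫ (𝒳.p.obj y).hom)
    have h5 : Algebra.FiniteType Λ B' := by
      apply finiteType_of_lft
      change LocallyOfFiniteType (Spec.map (CommRingCat.ofHom (algebraMap Λ B')))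
      rw [ha1]
      infer_instance
    have h6 : Algebra.FiniteType ℤ B' := Algebra.FiniteType.trans (S := Λ) inferInstance h5
    exact K145.FinArt.finite_of_isArtinianRing B'
  exact exists_lift_of_EV hf hev hw φ hφ α β hαβ

/-- The projection `ξ × y ⟶ y` is smooth for every `y`. -/
theorem smooth_prod (hf : FibCat.IsFibGrpd 𝒳.p) (hLP : LP 𝒳) (hPR : PR 𝒳) {A : Type u} [CommRing A] [Algebra Λ A]
    [Algebra.FiniteType Λ A] {ξ : 𝒳.obj} (hξ : Ov A ξ) (hev : EV ξ) {y w : 𝒳.obj} {p : w ⟶ ξ} {q : w ⟶ y}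
    (hw : IsProd p q) : Smooth (𝒳.p.map q).left := by
  -- base change
  have hbc : ∀ {y' w' : 𝒳.obj} {p' : w' ⟶ ξ} {q' : w' ⟶ y'} (_ : IsProd p' q') {y w : 𝒳.obj} {p : w ⟶ ξ} {q : w ⟶ y}
      (_ : IsProd p q) (b : y' ⟶ y), ∃ c : w' ⟶ w,
        IsPullback (𝒳.p.map c).left (𝒳.p.map q').left (𝒳.p.map q).left (𝒳.p.map b).left := by
    intro y' w' p' q' h' y w p q h b
    obtain ⟨c, -, -, hc⟩ := isPullback_map hf h h' b
    exact ⟨c, hc.map (Over.forget _)⟩
  -- the affine case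
  have haff : ∀ (R : Type u) [CommRing R] [Algebra Λ R] {y w : 𝒳.obj} {p : w ⟶ ξ} {q : w ⟶ y} (_ : IsProd p q)
      (_ : Ov R y), Smooth (𝒳.p.map q).left := by
    intro R _ _ y w p q h hy
    obtain ⟨C, _, _, _, φ, y₁, a, ha⟩ := hLP R y hy
    have hy₁ : Ov C y₁ := Li.tgt (φ := φ) ha
    obtain ⟨w₁, p₁, q₁, h₁, hl₁⟩ := hPR ξ y₁
    have hs := smooth_of_finiteType hf hξ hy₁ hev (p := p₁) (q := q₁) h₁ hl₁
    obtain ⟨c, hc⟩ := hbc h (show IsProd p₁ q₁ from h₁) a
    exact MorphismProperty.of_isPullback hc hs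
  -- the general case
  refine IsZariskiLocalAtTarget.of_openCover (P := @Smooth) (𝒳.p.obj y).left.affineOpenCover.openCover fun i => ?_
  let R : Type u := (𝒳.p.obj y).left.affineOpenCover.X i
  let j : Spec (CommRingCat.of R) ⟶ (𝒳.p.obj y).left := (𝒳.p.obj y).left.affineOpenCover.f i
  obtain ⟨a1, ha1⟩ := exists_algebra R (j ≫ (𝒳.p.obj y).hom)
  let j₀ : sp Λ R ⟶ 𝒳.p.obj y := Over.homMk j ha1.symm
  obtain ⟨y', b, ey', hb⟩ := exists_lift hf j₀
  obtain ⟨w', p', q', h', -⟩ := hPR ξ y'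
  have hs := haff R (p := p') (q := q') h' ey'
  obtain ⟨c, hc⟩ := hbc (show IsProd p' q' from h') hw b
  have hj : (𝒳.p.map b).left = (eqToHom ey').left ≫ j := congrArg (fun f => CommaMorphism.left f) hb
  have hc' : IsPullback (𝒳.p.map c).left ((𝒳.p.map q').left ≫ (eqToHom ey').left) (𝒳.p.map q).left j := by
    refine hc.of_iso (Iso.refl _) (Iso.refl _) (asIso (eqToHom ey').left) (Iso.refl _) ?_ ?_ ?_ ?_
    · simp
    · simp
    · simp
    · simpa using hj
  have h1 : hc'.isoPullback.inv ≫ (𝒳.p.map q').left ≫ (eqToHom ey').left = pullback.snd (𝒳.p.map q).left j :=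
    hc'.isoPullback_inv_snd
  change Smooth (pullback.snd (𝒳.p.map q).left j)
  rw [← h1]
  infer_instance

end K145.SmoothChart
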