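import Groth.Agent.AlgSp.K145.SmoothChart
import Groth.Agent.AlgSt.K744.ArtD.Prod
import Groth.Agent.AlgSt.K735.Rep
import Groth.Agent.AlgSp.K597.LocP

/-!
# Charts with the lifting property are representable and smooth (helper145)

`repWith_of_prod` : representability from products, in any universe; `smooth_chart` : node (C) of Artin's theorem.
-/

set_option autoImplicit false
set_option backward.isDefEq.respectTransparency false
set_option backward.isDefEq.respectTransparency.types false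

universe w v u

open CategoryTheory CategoryTheory.Limits AlgebraicGeometry Opposite

namespace K145.SmoothChart

section Rep

variable {S : Scheme.{u}} {𝒳 : BasedCategory.{v, w} (Over S)}

/-- A chart is representable with `Q` when all products with its object exist and have `Q` (any universe). -/
theorem repWith_of_prod (hf : FibCat.IsFibGrpd 𝒳.p) {Q : MorphismProperty Scheme.{u}} [Q.IsStableUnderBaseChange]
    (hpre : ∀ ⦃A B C : Scheme.{u}⦄ (e : A ⟶ B) (f : B ⟶ C), Etale e → Q f → Q (e ≫ f)) {U : Over S}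
    (x : FibCat.overCat U ⥤ᵇ 𝒳)
    (H : ∀ τ : 𝒳.obj, ∃ (w : 𝒳.obj) (p : w ⟶ τ) (q : w ⟶ x.obj (Over.mk (𝟙 U))), K744.ArtD.IsProd p q ∧
      Q (𝒳.p.map p).left) :
    AlgSt.RepByAlgSpWith (AlgSp.LocP Q) x := by
  intro T y
  obtain ⟨w, p, q, hpq, hQ⟩ := H (y.obj (Over.mk (𝟙 T)))
  obtain ⟨e, he, he1, -⟩ := K744.ArtD.exists_isEquivOver_of_isProd hf y x p q hpq
  refine ⟨⟨(AlgSp.yon S).obj (𝒳.p.obj w), AlgSp.IsAlgSpace.yon_obj _⟩,
    BasedFunctor.comp (AlgSt.toOverCat (𝒳.p.obj w)) e, K735.Fib.IsEquivOver.comp (K735.Rep.isEquivOver_toOverCat _) he, ?_⟩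
  have h1 : BasedFunctor.comp (BasedFunctor.comp (AlgSt.toOverCat (𝒳.p.obj w)) e) (FibCat.fpFst y x) =
      BasedFunctor.comp (AlgSt.toOverCat (𝒳.p.obj w))
        (K744.IsomFp.ovMap (𝒳.p.map p ≫ eqToHom (K744.ArtD.ob_base y))) := by
    rw [← he1]
    rfl
  rw [h1]
  have h2 : AlgSt.spMapOfOver (BasedFunctor.comp (AlgSt.toOverCat (𝒳.p.obj w))
        (K744.IsomFp.ovMap (𝒳.p.map p ≫ eqToHom (K744.ArtD.ob_base y)))) =
      (AlgSp.yon S).map (𝒳.p.map p ≫ eqToHom (K744.ArtD.ob_base y)) := by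
    apply ObjectProperty.hom_ext
    ext V k
    refine congrArg ULift.up ?_
    change eqToHom _ ≫ k.down ≫ _ = k.down ≫ _
    simp
  rw [h2]
  have h4 : Q (𝒳.p.map p ≫ eqToHom (K744.ArtD.ob_base y)).left := by
    change Q ((𝒳.p.map p).left ≫ (eqToHom (K744.ArtD.ob_base y) : _ ⟶ T).left)
    exact MorphismProperty.RespectsIso.postcomp Q _ _ hQ
  exact K597.locP_of_repWith hpre ((AlgSp.repWith_yon_map_iff Q _).2 h4)

end Rep

/-- **Node (C)** : a chart with the lifting property `EV` is representable and smooth. -/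
theorem smooth_chart (Λ : Type u) [CommRing Λ] [Algebra.FiniteType ℤ Λ]
    (𝒳 : BasedCategory.{v, w} (Over (Spec (CommRingCat.of Λ)))) (h : K607.Artin.Axioms 𝒳)
    (hf : FibCat.IsFibGrpd 𝒳.p) (A : Type u) [CommRing A] [Algebra Λ A] [Algebra.FiniteType Λ A]
    (ξ : 𝒳.obj) (hξ : K607.Artin.Ov A ξ) (hev : K607.Artin.EV ξ) :
    AlgSt.RepByAlgSpWith (AlgSp.LocP @Smooth) (K735.Fp.yonF hf ξ hξ) := by
  refine repWith_of_prod hf (Q := @Smooth) (fun A B C e f he hfs => ?_) _ fun τ => ?_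
  · infer_instance
  · let i := K735.Fp.yonFIso hf ξ hξ
    obtain ⟨w, p, q, hw, -⟩ := h.pr ξ τ
    have hw' : K145.ProdSq.IsProd p q := hw
    have hs := smooth_prod hf h.lp h.pr hξ hev hw'
    refine ⟨w, q, p ≫ i.inv, ?_, hs⟩
    intro z a b
    obtain ⟨c, ⟨h1, h2⟩, h3⟩ := hw z (b ≫ i.hom) a
    refine ⟨c, ⟨h2, ?_⟩, ?_⟩
    · rw [← Category.assoc, h1, Category.assoc, i.hom_inv_id, Category.comp_id]
    · rintro c' ⟨h4, h5⟩
      refine h3 c' ⟨?_, h4⟩
      rw [← h5, Category.assoc, Category.assoc, i.inv_hom_id, Category.comp_id]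

end K145.SmoothChart
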